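import Groth.Agent.H17.CohInd.Extend
import Groth.Agent.H17.FPExt.Compact
import Groth.Agent.H17.ConsModModels
import Groth.Agent.H10Coh.FinType2
import Groth.Prelude.Def_QCohCat
import Mathlib

/-!
# Coherent modules inside quasi-coherent modules on a Noetherian scheme
-/

set_option autoImplicit false
set_option linter.style.haveILetI false

universe u

open CategoryTheory Limits AlgebraicGeometry

noncomputable section

namespace Groth.Agent.H17.CohInd

open QCohCat

/-- The category of coherent modules. -/
abbrev CohCat (X : Scheme.{u}) := ObjectProperty.FullSubcategory (fun M : X.Modules => Coh.IsCoh M)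

/-- Coherent modules are quasi-coherent. -/
abbrev toQCoh (X : Scheme.{u}) : CohCat X ⥤ QCoh X :=
  ObjectProperty.ιOfLE (P := (fun M : X.Modules => Coh.IsCoh M)) (P' := QCohCat.isQCoh X) (fun _ h => h.1)

instance (X : Scheme.{u}) : HasFilteredColimitsOfSize.{u, u} (QCoh X) := ⟨fun _ _ _ => inferInstance⟩

theorem gen (X : Scheme.{u}) [IsNoetherian X] : Gen.{u} (toQCoh X) := by
  refine Gen.of_presentation (fun a => (FPExt.isFinitelyPresentable_iff _).2
    (H10Coh.isFP_of_isCoh a.obj a.property)) fun M => ?_
  obtain ⟨F, hF⟩ := M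
  obtain ⟨I, _, _, D, c, hc, hD, hpt⟩ := FPExt.exists_isColimit_fp F hF
  subst hpt
  let D' : I ⥤ CohCat X := ObjectProperty.lift _ D fun i => Groth.Agent.H17.ConsProp.isCoh_of_isFP (hD i)
  let c' : Cocone (D' ⋙ toQCoh X) :=
    { pt := ⟨c.pt, hF⟩
      ι := { app := fun i => ObjectProperty.homMk (c.ι.app i)
             naturality := fun i j a => ObjectProperty.hom_ext _ (c.ι.naturality a) } }
  exact ⟨I, inferInstance, inferInstance, D', c', ⟨isColimitOfReflects (QCohCat.isQCoh X).ι
    (IsColimit.ofIsoColimit hc (Cocone.ext (Iso.refl _) (fun i => Category.comp_id _)))⟩, rfl⟩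

/-- An equivalence of coherent modules extends to quasi-coherent modules. -/
theorem exists_equivalence_qcoh {X Y : Scheme.{u}} [IsNoetherian X] [IsNoetherian Y]
    (F : CohCat X ≌ CohCat Y) :
    ∃ e : QCoh X ≌ QCoh Y, Nonempty (toQCoh X ⋙ e.functor ≅ F.functor ⋙ toQCoh Y) :=
  exists_equivalence (gen X) (gen Y) F

end Groth.Agent.H17.CohInd
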