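import Mathlib

/-!
# Functors determined by a dense subcategory of finitely presentable objects

`Gen K` : the fully faithful functor `K : A ⥤ C` has finitely presentable values and every object of `C`
is a small filtered colimit of such values. Then functors out of `A` extend, uniquely, to functors out of
`C` preserving filtered colimits.
-/

set_option autoImplicit false
set_option linter.style.haveILetI false

universe w v₁ v₂ v₃ u₁ u₂ u₃

open CategoryTheory Limits

noncomputable section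

namespace Groth.Agent.H17.CohInd

variable {A : Type u₁} [Category.{v₁} A] {C : Type u₂} [Category.{v₂} C] {B : Type u₃} [Category.{v₃} B]
  (K : A ⥤ C)

/-- The tautological cocone on the objects `K a` over `M`. -/
@[simps]
def canon (M : C) : Cocone (CostructuredArrow.proj K M ⋙ K) where
  pt := M
  ι :=
    { app := fun a => a.hom
      naturality := fun a b g => by
        show _ = a.hom ≫ 𝟙 _
        rw [Category.comp_id]
        exact CostructuredArrow.w g }

/-- Every object of `C` is a small filtered colimit of finitely presentable objects `K a`. -/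
structure Gen : Prop where
  fp : ∀ a, IsFinitelyPresentable.{w} (K.obj a)
  pres : ∀ M : C, ∃ (J : Type w) (_ : SmallCategory J) (_ : IsFiltered J)
    (T : J ⥤ CostructuredArrow K M), T.Final ∧ Nonempty (IsColimit ((canon K M).whisker T))

variable {K}

theorem Gen.of_presentation [K.Full] [K.Faithful] (hfp : ∀ a, IsFinitelyPresentable.{w} (K.obj a))
    (h : ∀ M : C, ∃ (J : Type w) (_ : SmallCategory J) (_ : IsFiltered J) (D : J ⥤ A)
      (c : Cocone (D ⋙ K)), Nonempty (IsColimit c) ∧ c.pt = M) : Gen.{w} K := by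
  refine ⟨hfp, fun M => ?_⟩
  obtain ⟨J, _, _, D, c, ⟨hc⟩, rfl⟩ := h M
  let T : J ⥤ CostructuredArrow K c.pt :=
    { obj := fun j => CostructuredArrow.mk (c.ι.app j)
      map := fun g => CostructuredArrow.homMk (D.map g) (c.w g)
      map_id := fun j => CostructuredArrow.hom_ext _ _ (D.map_id j)
      map_comp := fun f g => CostructuredArrow.hom_ext _ _ (D.map_comp f g) }
  refine ⟨J, inferInstance, inferInstance, T, ?_,
    ⟨IsColimit.ofIsoColimit hc (Cocone.ext (Iso.refl _) (fun j => Category.comp_id _))⟩⟩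
  rw [Functor.final_iff_of_isFiltered]
  refine ⟨fun a => ?_, fun {a j} g₁ g₂ => ?_⟩
  · haveI := hfp a.left
    obtain ⟨j, p, hp⟩ := IsFinitelyPresentable.exists_hom_of_isColimit hc a.hom
    exact ⟨j, ⟨CostructuredArrow.homMk (K.preimage p) (by rw [K.map_preimage]; exact hp)⟩⟩
  · haveI := hfp a.left
    obtain ⟨k, s, t, e⟩ := IsFinitelyPresentable.exists_eq_of_isColimit hc (K.map g₁.left) (K.map g₂.left)
      ((CostructuredArrow.w g₁).trans (CostructuredArrow.w g₂).symm)
    refine ⟨IsFiltered.coeq s t, s ≫ IsFiltered.coeqHom s t, CostructuredArrow.hom_ext _ _ (K.map_injective ?_)⟩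
    show K.map (g₁.left ≫ D.map _) = K.map (g₂.left ≫ D.map _)
    rw [K.map_comp, K.map_comp]
    conv_rhs => rw [IsFiltered.coeq_condition]
    rw [D.map_comp, D.map_comp, K.map_comp, K.map_comp]
    simp only [Functor.comp_map] at e
    exact (Category.assoc _ _ _).symm.trans ((congrArg (· ≫ K.map (D.map (IsFiltered.coeqHom s t))) e).trans
      (Category.assoc _ _ _))

/-- `G` is computed by the objects `K a`. -/
def IsExt (K : A ⥤ C) (G : C ⥤ B) : Prop :=
  ∀ M, Nonempty (IsColimit (G.mapCocone (canon K M)))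

theorem Gen.nonempty_isColimit_canon (hK : Gen.{w} K) (M : C) : Nonempty (IsColimit (canon K M)) := by
  obtain ⟨J, _, _, T, hT, ⟨h⟩⟩ := hK.pres M
  exact ⟨Functor.Final.isColimitWhiskerEquiv (F := T) _ h⟩

theorem Gen.isExt_of_preserves (hK : Gen.{w} K) (G : C ⥤ B) [PreservesFilteredColimitsOfSize.{w, w} G] :
    IsExt K G := fun M => by
  obtain ⟨J, _, _, T, hT, ⟨h⟩⟩ := hK.pres M
  exact ⟨Functor.Final.isColimitWhiskerEquiv (F := T) _
    (IsColimit.ofIsoColimit (isColimitOfPreserves G h) (Cocone.ext (Iso.refl _) (fun j => Category.comp_id _)))⟩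

theorem IsExt.hom_ext {G : C ⥤ B} (hG : IsExt K G) {M : C} {T : B} {f g : G.obj M ⟶ T}
    (h : ∀ (a : A) (k : K.obj a ⟶ M), G.map k ≫ f = G.map k ≫ g) : f = g :=
  (hG M).some.hom_ext fun a => h a.left a.hom

theorem Gen.exists_isExt [K.Full] [K.Faithful] (hK : Gen.{w} K) [HasFilteredColimitsOfSize.{w, w} B]
    (F : A ⥤ B) : ∃ G : C ⥤ B, IsExt K G ∧ Nonempty (K ⋙ G ≅ F) := by
  haveI : K.HasPointwiseLeftKanExtension F := fun M => by
    obtain ⟨J, _, _, T, hT, -⟩ := hK.pres M
    exact Functor.Final.hasColimit_of_comp T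
  let G := K.pointwiseLeftKanExtension F
  haveI : ∀ a : A, IsIso ((K.pointwiseLeftKanExtensionUnit F).app a) := fun a =>
    (Functor.pointwiseLeftKanExtensionIsPointwiseLeftKanExtension K F _).isIso_hom_app
  haveI : IsIso (K.pointwiseLeftKanExtensionUnit F) := NatIso.isIso_of_isIso_app _
  let η := asIso (K.pointwiseLeftKanExtensionUnit F)
  refine ⟨G, fun M => ⟨?_⟩, ⟨η.symm⟩⟩
  let h := Functor.pointwiseLeftKanExtensionIsPointwiseLeftKanExtension K F M
  refine ((IsColimit.precomposeHomEquiv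
    ((Functor.isoWhiskerLeft (CostructuredArrow.proj K M) η)) _).1 ?_)
  exact IsColimit.ofIsoColimit h (Cocone.ext (Iso.refl _) (fun a => Category.comp_id _))

theorem IsExt.nonempty_iso {G₁ G₂ : C ⥤ B} (h₁ : IsExt K G₁) (h₂ : IsExt K G₂)
    (i : K ⋙ G₁ ≅ K ⋙ G₂) : Nonempty (G₁ ≅ G₂) := by
  refine ⟨NatIso.ofComponents (fun M => (h₁ M).some.coconePointsIsoOfNatIso (h₂ M).some
    (Functor.isoWhiskerLeft (CostructuredArrow.proj K M) i)) fun {M N} f => ?_⟩
  refine h₁.hom_ext fun a k => ?_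
  have e : ∀ {M : C} (k : K.obj a ⟶ M), G₁.map k ≫ ((h₁ M).some.coconePointsIsoOfNatIso (h₂ M).some
      (Functor.isoWhiskerLeft (CostructuredArrow.proj K M) i)).hom = i.hom.app a ≫ G₂.map k := fun {M} k =>
    IsColimit.comp_coconePointsIsoOfNatIso_hom (h₁ M).some (h₂ M).some
      (Functor.isoWhiskerLeft (CostructuredArrow.proj K M) i) (CostructuredArrow.mk (Y := a) k)
  rw [← Category.assoc, ← G₁.map_comp]
  refine (e _).trans ?_
  rw [← Category.assoc, G₂.map_comp, ← Category.assoc]
  exact (congrArg (· ≫ G₂.map f) (e k)).symm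

theorem Gen.preservesFilteredColimits (hK : Gen.{w} K) {G : C ⥤ B} (hG : IsExt K G) :
    PreservesFilteredColimitsOfSize.{w, w} G := by
  refine ⟨fun J _ _ => ⟨fun {D} => ⟨fun {c} hc => ⟨?_⟩⟩⟩⟩
  have hwd : ∀ (s : Cocone (D ⋙ G)) (a : A) (i j : J) (p : K.obj a ⟶ D.obj i) (q : K.obj a ⟶ D.obj j),
      p ≫ c.ι.app i = q ≫ c.ι.app j → G.map p ≫ s.ι.app i = G.map q ≫ s.ι.app j := by
    intro s a i j p q h
    haveI := hK.fp a
    obtain ⟨k, f, g, e⟩ := IsFinitelyPresentable.exists_eq_of_isColimit hc p q h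
    rw [← s.w f, ← s.w g, Functor.comp_map, Functor.comp_map, ← G.map_comp_assoc, e, G.map_comp_assoc]
  choose jj pp hpp using fun (a : A) (k : K.obj a ⟶ c.pt) =>
    haveI := hK.fp a
    IsFinitelyPresentable.exists_hom_of_isColimit hc k
  let t : ∀ s : Cocone (D ⋙ G), Cocone ((CostructuredArrow.proj K c.pt ⋙ K) ⋙ G) := fun s =>
    { pt := s.pt
      ι :=
        { app := fun a => G.map (pp a.left a.hom) ≫ s.ι.app (jj a.left a.hom)
          naturality := fun a b g => by
            show G.map (K.map g.left) ≫ _ = _ ≫ 𝟙 _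
            rw [Category.comp_id]
            refine (Category.assoc _ _ _).symm.trans ?_
            refine (congrArg (· ≫ _) (G.map_comp _ _).symm).trans ?_
            refine hwd s a.left _ _ _ _ ?_
            rw [Category.assoc, hpp, hpp]
            exact CostructuredArrow.w g } }
  refine { desc := fun s => (hG c.pt).some.desc (t s), fac := fun s j => ?_, uniq := fun s m hm => ?_ }
  · refine hG.hom_ext fun a k => ?_
    refine Eq.trans ?_ (hwd s a (jj a (k ≫ c.ι.app j)) j (pp _ _) k (hpp _ _))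
    rw [← Category.assoc]
    refine Eq.trans (congrArg (· ≫ _) (G.map_comp k (c.ι.app j)).symm) ?_
    exact (hG c.pt).some.fac (t s) (CostructuredArrow.mk (Y := a) (k ≫ c.ι.app j))
  · refine hG.hom_ext fun a k => ?_
    refine Eq.trans ?_ ((hG c.pt).some.fac (t s) (CostructuredArrow.mk (Y := a) k)).symm
    conv_lhs => rw [← hpp a k, G.map_comp, Category.assoc]
    exact congrArg (G.map (pp a k) ≫ ·) (hm (jj a k))

theorem Gen.exists_extension [K.Full] [K.Faithful] (hK : Gen.{w} K) [HasFilteredColimitsOfSize.{w, w} B]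
    (F : A ⥤ B) : ∃ G : C ⥤ B, PreservesFilteredColimitsOfSize.{w, w} G ∧ Nonempty (K ⋙ G ≅ F) := by
  obtain ⟨G, hG, hi⟩ := hK.exists_isExt F
  exact ⟨G, hK.preservesFilteredColimits hG, hi⟩

theorem Gen.extension_unique (hK : Gen.{w} K) (G₁ G₂ : C ⥤ B) [PreservesFilteredColimitsOfSize.{w, w} G₁]
    [PreservesFilteredColimitsOfSize.{w, w} G₂] (i : K ⋙ G₁ ≅ K ⋙ G₂) : Nonempty (G₁ ≅ G₂) :=
  (hK.isExt_of_preserves G₁).nonempty_iso (hK.isExt_of_preserves G₂) i

/-- An equivalence of the small subcategories extends to the big categories. -/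
theorem exists_equivalence {A' : Type u₁} [Category.{v₁} A'] {C' : Type u₂} [Category.{v₂} C']
    {K' : A' ⥤ C'} [K.Full] [K.Faithful] [K'.Full] [K'.Faithful] (hK : Gen.{w} K) (hK' : Gen.{w} K')
    [HasFilteredColimitsOfSize.{w, w} C] [HasFilteredColimitsOfSize.{w, w} C'] (F : A ≌ A') :
    ∃ e : C ≌ C', Nonempty (K ⋙ e.functor ≅ F.functor ⋙ K') := by
  obtain ⟨G, hG, ⟨i⟩⟩ := hK.exists_extension (F.functor ⋙ K')
  obtain ⟨H, hH, ⟨j⟩⟩ := hK'.exists_extension (F.inverse ⋙ K)
  obtain ⟨η⟩ := hK.extension_unique (G ⋙ H) (𝟭 C)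
    ((Functor.associator _ _ _).symm ≪≫ Functor.isoWhiskerRight i H ≪≫ Functor.associator _ _ _ ≪≫
      Functor.isoWhiskerLeft F.functor j ≪≫ (Functor.associator _ _ _).symm ≪≫
      Functor.isoWhiskerRight F.unitIso.symm K ≪≫ Functor.leftUnitor _ ≪≫ (Functor.rightUnitor _).symm)
  obtain ⟨ε⟩ := hK'.extension_unique (H ⋙ G) (𝟭 C')
    ((Functor.associator _ _ _).symm ≪≫ Functor.isoWhiskerRight j G ≪≫ Functor.associator _ _ _ ≪≫
      Functor.isoWhiskerLeft F.inverse i ≪≫ (Functor.associator _ _ _).symm ≪≫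
      Functor.isoWhiskerRight F.counitIso K' ≪≫ Functor.leftUnitor _ ≪≫ (Functor.rightUnitor _).symm)
  exact ⟨CategoryTheory.Equivalence.mk G H η.symm ε, ⟨i⟩⟩

end Groth.Agent.H17.CohInd
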